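import Groth.Agent.Easy3.Inertia
import Groth.Agent.Easy3.InertiaGrade
import Mathlib.GroupTheory.GroupAction.Quotient
import Mathlib.LinearAlgebra.Finsupp.LinearCombination
import Mathlib.Tactic.Abel
import Mathlib.Tactic.Group

/-!
# The inertia operators are polynomials in the inertia operator

`inertiaR (r + 1) = inertia ∘ inertiaR r - r • inertiaR r`, by averaging over all tuples.
-/

set_option autoImplicit false
set_option linter.style.haveILetI false

namespace Groth.Agent.InertiaGpd

open W4c5stacksedinertia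

variable {G H : Type} [Group G] [Finite G] [Group H] [Finite H] {r : ℕ}

/-- The weighted class of a group. -/
noncomputable def w (G : Type) [Group G] [Finite G] : K := (Nat.card G : ℚ) • cl G

theorem cl_congr (e : G ≃* H) : cl G = cl H := by
  show Finsupp.single _ 1 = Finsupp.single _ 1
  congr 1
  obtain ⟨eG⟩ := Easy3.nonempty_carrier_equiv G
  obtain ⟨eH⟩ := Easy3.nonempty_carrier_equiv H
  exact Quotient.sound (s := FinGrp.setoid) ⟨(eG.trans e).trans eH.symm⟩

theorem w_congr (e : G ≃* H) : w G = w H := by rw [w, w, cl_congr e, Nat.card_congr e.toEquiv]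

/-- The centraliser of a tuple. -/
abbrev cen (s : CommTuple G r) : Subgroup G := Subgroup.centralizer (Set.range s.1)

theorem mem_cen {s : CommTuple G r} {g : G} : g ∈ cen s ↔ ∀ i, s.1 i * g = g * s.1 i := by
  rw [cen, Subgroup.mem_centralizer_iff]
  exact ⟨fun h i => h _ ⟨i, rfl⟩, fun h _ ⟨i, hi⟩ => hi ▸ h i⟩

instance : Finite (CommTuple G r) := Subtype.finite

instance : Finite (CommTuple.Orbit G r) := Quotient.finite _

/-- Conjugation on tuples. -/
@[reducible] def conjAction : MulAction G (CommTuple G r) where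
  smul g s := ⟨fun i => g * s.1 i * g⁻¹, fun a b h => s.2.1 (mul_left_cancel (mul_right_cancel h)),
    fun a b => (s.2.2 a b).conj g⟩
  one_smul s := Subtype.ext (funext fun i => by
    show 1 * s.1 i * 1⁻¹ = s.1 i
    group)
  mul_smul g g' s := Subtype.ext (funext fun i => by
    show g * g' * s.1 i * (g * g')⁻¹ = g * (g' * s.1 i * g'⁻¹) * g⁻¹
    group)

theorem card_fibre_mul (s : CommTuple G r) :
    Nat.card {t // (CommTuple.setoid G r).r s t} * Nat.card (cen s) = Nat.card G := by
  classical
  letI : MulAction G (CommTuple G r) := conjAction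
  have hst : MulAction.stabilizer G s = cen s := by
    ext g
    rw [MulAction.mem_stabilizer_iff, mem_cen]
    refine ⟨fun h i => ?_, fun h => Subtype.ext (funext fun i => ?_)⟩
    · have h' : g * s.1 i * g⁻¹ = s.1 i := congrFun (congrArg Subtype.val h) i
      exact (mul_inv_eq_iff_eq_mul.1 h').symm
    · show g * s.1 i * g⁻¹ = s.1 i
      exact mul_inv_eq_iff_eq_mul.2 (h i).symm
  haveI : Fintype G := Fintype.ofFinite G
  haveI : Fintype (MulAction.orbit G s) := Fintype.ofFinite _
  haveI : Fintype (MulAction.stabilizer G s) := Fintype.ofFinite _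
  rw [← hst, show Nat.card {t // (CommTuple.setoid G r).r s t} = Nat.card (MulAction.orbit G s) from
    Nat.card_congr (Equiv.subtypeEquivRight fun t =>
      ⟨fun ⟨g, hg⟩ => ⟨g, Subtype.ext (funext hg)⟩, fun ⟨g, hg⟩ => ⟨g, congrFun (congrArg Subtype.val hg)⟩⟩),
    Nat.card_eq_fintype_card, Nat.card_eq_fintype_card, Nat.card_eq_fintype_card]
  exact MulAction.card_orbit_mul_card_stabilizer_eq_card_group G s

theorem w_cen_of_rel {s t : CommTuple G r} (h : (CommTuple.setoid G r).r s t) : w (cen s) = w (cen t) := by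
  obtain ⟨g, hg⟩ := h
  have hmem : ∀ x, x ∈ cen s ↔ g * x * g⁻¹ ∈ cen t := fun x => by
    rw [mem_cen, mem_cen]
    refine forall_congr' fun i => ?_
    rw [← hg i]
    constructor
    · intro h
      calc g * s.1 i * g⁻¹ * (g * x * g⁻¹) = g * (s.1 i * x) * g⁻¹ := by group
        _ = g * (x * s.1 i) * g⁻¹ := by rw [h]
        _ = _ := by group
    · intro h
      calc s.1 i * x = g⁻¹ * (g * s.1 i * g⁻¹ * (g * x * g⁻¹)) * g := by group
        _ = g⁻¹ * (g * x * g⁻¹ * (g * s.1 i * g⁻¹)) * g := by rw [h]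
        _ = _ := by group
  refine w_congr ((MulEquiv.subgroupMap (MulAut.conj g) (cen s)).trans (MulEquiv.subgroupCongr ?_))
  ext y
  refine ⟨?_, fun hy => ⟨g⁻¹ * y * g, (hmem _).2 (by convert hy using 1; group), ?_⟩⟩
  · rintro ⟨x, hx, rfl⟩
    exact (hmem x).1 hx
  · show g * (g⁻¹ * y * g) * g⁻¹ = y
    group

/-- The operator as an average over all tuples. -/
theorem inertiaROf_eq (r : ℕ) (G : Type) [Group G] [Finite G] :
    inertiaROf r G = (Nat.card G : ℚ)⁻¹ • ∑ᶠ s : CommTuple G r, w (cen s) := by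
  classical
  haveI : Fintype (CommTuple G r) := Fintype.ofFinite _
  haveI : Fintype (CommTuple.Orbit G r) := Fintype.ofFinite _
  let q : CommTuple G r → CommTuple.Orbit G r := fun s => Quotient.mk (CommTuple.setoid G r) s
  rw [inertiaROf, finsum_eq_sum_of_fintype, finsum_eq_sum_of_fintype,
    ← Finset.sum_fiberwise (Finset.univ : Finset (CommTuple G r)) q
      (fun s => w (cen s)), Finset.smul_sum]
  refine Finset.sum_congr rfl fun O _ => ?_
  let o := Quotient.out (s := CommTuple.setoid G r) O
  have hrel : ∀ s, Quotient.mk (CommTuple.setoid G r) s = O → (CommTuple.setoid G r).r o s := fun s hs =>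
    Quotient.exact ((Quotient.out_eq O).trans hs.symm)
  rw [(Finset.sum_congr rfl fun s hs => (w_cen_of_rel (hrel s (Finset.mem_filter.1 hs).2)).symm :
      ∑ s ∈ Finset.univ.filter (fun s => q s = O), w (cen s)
        = ∑ _s ∈ Finset.univ.filter (fun s => q s = O), w (cen o)),
    Finset.sum_const, ← Nat.cast_smul_eq_nsmul ℚ, w, smul_smul, smul_smul]
  have hc : (Finset.univ.filter fun s => q s = O).card
      = Nat.card {t // (CommTuple.setoid G r).r o t} := by
    rw [← Fintype.card_subtype, ← Nat.card_eq_fintype_card]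
    refine Nat.card_congr (Equiv.subtypeEquivRight fun t => ⟨hrel t, fun h => ?_⟩)
    rw [← Quotient.out_eq O]
    exact (Quotient.sound h).symm
  have h1 : ((Finset.univ.filter fun s => q s = O).card : ℚ) * (Nat.card (cen o) : ℚ)
      = (Nat.card G : ℚ) := by
    rw [hc]
    exact_mod_cast card_fibre_mul o
  have h2 : (Nat.card G : ℚ) ≠ 0 := Nat.cast_ne_zero.2 Nat.card_pos.ne'
  show cl _ = _ • cl _
  rw [mul_assoc, h1, inv_mul_cancel₀ h2, one_smul]

/-- Tuples transport along isomorphisms. -/
def tupleEquiv (e : G ≃* H) (r : ℕ) : CommTuple G r ≃ CommTuple H r where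
  toFun s := ⟨fun i => e (s.1 i), e.injective.comp s.2.1, fun a b => (s.2.2 a b).map e.toMonoidHom⟩
  invFun s := ⟨fun i => e.symm (s.1 i), e.symm.injective.comp s.2.1, fun a b => (s.2.2 a b).map e.symm.toMonoidHom⟩
  left_inv s := Subtype.ext (funext fun i => e.symm_apply_apply _)
  right_inv s := Subtype.ext (funext fun i => e.apply_symm_apply _)

theorem inertiaROf_congr (r : ℕ) (e : G ≃* H) : inertiaROf r G = inertiaROf r H := by
  rw [inertiaROf_eq, inertiaROf_eq, Nat.card_congr e.toEquiv, ← finsum_comp_equiv (tupleEquiv e r)]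
  congr 1
  refine finsum_congr fun s => w_congr ((MulEquiv.subgroupMap e (cen s)).trans (MulEquiv.subgroupCongr ?_))
  ext y
  rw [mem_cen]
  refine ⟨?_, fun h => ⟨e.symm y, mem_cen.2 fun i => e.injective ?_, e.apply_symm_apply y⟩⟩
  · rintro ⟨x, hx, rfl⟩ i
    show e (s.1 i) * e x = e x * e (s.1 i)
    rw [← map_mul, ← map_mul, mem_cen.1 hx i]
  · rw [map_mul, map_mul, e.apply_symm_apply]
    exact h i

theorem inertiaR_cl (r : ℕ) (G : Type) [Group G] [Finite G] : inertiaR r (cl G) = inertiaROf r G := by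
  obtain ⟨e⟩ := Easy3.nonempty_rep_equiv G
  rw [inertiaR, cl, Finsupp.linearCombination_single, one_smul]
  exact inertiaROf_congr r e

theorem inertiaR_w (r : ℕ) (G : Type) [Group G] [Finite G] :
    inertiaR r (w G) = ∑ᶠ s : CommTuple G r, w (cen s) := by
  rw [w, map_smul, inertiaR_cl, inertiaROf_eq, smul_smul, mul_inv_cancel₀ (Nat.cast_ne_zero.2 Nat.card_pos.ne'),
    one_smul]

/-- Adding an element commuting with all entries. -/
noncomputable def splitEquiv (G : Type) [Group G] (r : ℕ) :
    (Σ s : CommTuple G r, cen s) ≃ CommTuple G (r + 1) ⊕ (CommTuple G r × Fin r) := by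
  classical
  exact
  { toFun := fun p =>
      if h : ∃ j, p.1.1 j = p.2.1 then Sum.inr (p.1, h.choose) else
        Sum.inl ⟨Fin.cons p.2.1 p.1.1, Fin.cons_injective_iff.2 ⟨fun ⟨j, hj⟩ => h ⟨j, hj⟩, p.1.2.1⟩, fun a b => by
          have hc : ∀ j, p.1.1 j * p.2.1 = p.2.1 * p.1.1 j := fun j =>
            Subgroup.mem_centralizer_iff.1 p.2.2 _ ⟨j, rfl⟩
          refine Fin.cases ?_ (fun i => ?_) a <;> refine Fin.cases ?_ (fun j => ?_) b <;>
            simp only [Fin.cons_zero, Fin.cons_succ]
          · exact Commute.refl _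
          · exact (hc j).symm
          · exact hc i
          · exact p.1.2.2 i j⟩
    invFun := Sum.elim
      (fun t => ⟨⟨fun i => t.1 i.succ, t.2.1.comp (Fin.succ_injective r), fun a b => t.2.2 _ _⟩,
        ⟨t.1 0, Subgroup.mem_centralizer_iff.2 fun _ ⟨j, hj⟩ => hj ▸ t.2.2 j.succ 0⟩⟩)
      (fun q => ⟨q.1, ⟨q.1.1 q.2, Subgroup.mem_centralizer_iff.2 fun _ ⟨j, hj⟩ => hj ▸ q.1.2.2 j q.2⟩⟩)
    left_inv := fun p => by
      obtain ⟨⟨s, hs⟩, x, hx⟩ := p
      by_cases h : ∃ j, s j = x
      · simp only [dif_pos h, Sum.elim_inr]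
        exact Sigma.ext rfl (heq_of_eq (Subtype.ext h.choose_spec))
      · simp only [dif_neg h, Sum.elim_inl]
        rfl
    right_inv := fun q => by
      rcases q with t | ⟨s, j⟩
      · have h : ¬ ∃ j : Fin r, t.1 j.succ = t.1 0 := fun ⟨j, hj⟩ => Fin.succ_ne_zero j (t.2.1 hj)
        simp only [Sum.elim_inl, dif_neg h]
        exact congrArg Sum.inl (Subtype.ext (Fin.cons_self_tail t.1))
      · have h : ∃ i, s.1 i = s.1 j := ⟨j, rfl⟩
        simp only [Sum.elim_inr, dif_pos h]
        exact congrArg Sum.inr (Prod.ext rfl (s.2.1 h.choose_spec)) }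

/-- The common centraliser inside a centraliser. -/
theorem cen_sub_equiv (s : CommTuple G r) (x : cen s) :
    ∀ (t : CommTuple (cen s) 1), t.1 0 = x →
      Nonempty (cen t ≃* (Subgroup.centralizer (insert x.1 (Set.range s.1)) : Subgroup G)) := by
  intro t ht
  refine ⟨(Subgroup.equivMapOfInjective (cen t) (cen s).subtype Subtype.val_injective).trans
    (MulEquiv.subgroupCongr ?_)⟩
  ext g
  rw [Subgroup.mem_centralizer_iff]
  constructor
  · rintro ⟨⟨y, hy⟩, hyt, rfl⟩ z hz
    rcases hz with rfl | ⟨i, rfl⟩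
    · have h := congrArg Subtype.val (mem_cen.1 hyt 0)
      rw [ht] at h
      exact h
    · exact mem_cen.1 hy i
  · intro h
    refine ⟨⟨g, mem_cen.2 fun i => h _ (Or.inr ⟨i, rfl⟩)⟩, mem_cen.2 fun i => Subtype.ext ?_, rfl⟩
    rw [Subsingleton.elim i 0, ht]
    exact h _ (Or.inl rfl)

theorem inertia_inertiaR_w (r : ℕ) (G : Type) [Group G] [Finite G] :
    inertia (inertiaR r (w G)) = inertiaR (r + 1) (w G) + (r : ℚ) • inertiaR r (w G) := by
  classical
  haveI : Fintype (CommTuple G r) := Fintype.ofFinite _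
  haveI : Fintype (CommTuple G (r + 1)) := Fintype.ofFinite _
  haveI : ∀ s : CommTuple G r, Fintype (cen s) := fun s => Fintype.ofFinite _
  let F : Set G → K := fun S => w (Subgroup.centralizer S)
  have hone : ∀ (s : CommTuple G r), inertiaR 1 (w (cen s)) = ∑ x : cen s, F (insert x.1 (Set.range s.1)) := fun s => by
    haveI : Fintype (CommTuple (cen s) 1) := Fintype.ofFinite _
    rw [inertiaR_w, finsum_eq_sum_of_fintype]
    let e : CommTuple (cen s) 1 ≃ cen s :=
      { toFun := fun t => t.1 0
        invFun := fun x => ⟨fun _ => x, fun a b _ => Subsingleton.elim a b, fun a b => Commute.refl x⟩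
        left_inv := fun t => Subtype.ext (funext fun i => by rw [Subsingleton.elim i 0])
        right_inv := fun x => rfl }
    refine (Fintype.sum_equiv e _ _ fun t => ?_)
    exact w_congr (cen_sub_equiv s (e t) t rfl).some
  rw [inertiaR_w, inertiaR_w, finsum_eq_sum_of_fintype, finsum_eq_sum_of_fintype, map_sum]
  show ∑ s, inertiaR 1 (w (cen s)) = _
  simp only [hone]
  rw [← Fintype.sum_sigma' (fun (s : CommTuple G r) (x : cen s) => F (insert x.1 (Set.range s.1))),
    ← (splitEquiv G r).symm.sum_comp, Fintype.sum_sum_type]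
  congr 1
  · refine Finset.sum_congr rfl fun t _ => ?_
    show F _ = F (Set.range t.1)
    congr 1
    show insert (t.1 0) (Set.range fun i : Fin r => t.1 i.succ) = _
    ext y
    constructor
    · rintro (rfl | ⟨i, rfl⟩) <;> exact ⟨_, rfl⟩
    · rintro ⟨i, rfl⟩
      refine Fin.cases (Or.inl rfl) (fun j => Or.inr ⟨j, rfl⟩) i
  · rw [Fintype.sum_prod_type, Finset.smul_sum]
    refine Finset.sum_congr rfl fun s _ => ?_
    refine (Finset.sum_congr rfl fun j _ => show _ = w (cen s) from congrArg F (Set.insert_eq_of_mem ⟨j, rfl⟩)).trans ?_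
    rw [Finset.sum_const, Finset.card_univ, Fintype.card_fin, ← Nat.cast_smul_eq_nsmul ℚ]

/-- The recursion for the inertia operators. -/
theorem inertiaR_succ (r : ℕ) (v : K) : inertiaR (r + 1) v = inertia (inertiaR r v) - (r : ℚ) • inertiaR r v := by
  induction v using Finsupp.induction_linear with
  | zero => simp
  | add a b ha hb => rw [map_add, map_add, map_add, ha, hb, smul_add]; abel
  | single i c =>
    have h : Finsupp.single i c = (c * (Nat.card i.rep : ℚ)⁻¹) • w i.rep := by
      rw [w, smul_smul, mul_assoc, inv_mul_cancel₀ (Nat.cast_ne_zero.2 Nat.card_pos.ne'), mul_one, cl, Easy3.of_rep,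
        Finsupp.smul_single, smul_eq_mul, mul_one]
    rw [h, map_smul, map_smul, map_smul, inertia_inertiaR_w, smul_comm _ _ (inertiaR r (w i.rep)), ← smul_sub,
      add_sub_cancel_right]

theorem inertiaR_zero (v : K) : inertiaR 0 v = v := by
  induction v using Finsupp.induction_linear with
  | zero => simp
  | add a b ha hb => rw [map_add, ha, hb]
  | single i c =>
    have hc : inertiaROf 0 i.rep = Finsupp.single i 1 := by
      let s0 : CommTuple i.rep 0 := ⟨Fin.elim0, fun a => a.elim0, fun a => a.elim0⟩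
      haveI : Subsingleton (CommTuple i.rep 0) := ⟨fun a b => Subtype.ext (funext fun j => j.elim0)⟩
      haveI : Unique (CommTuple i.rep 0) := uniqueOfSubsingleton s0
      have htop : cen s0 = ⊤ := by
        rw [eq_top_iff]
        intro g _
        exact mem_cen.2 fun j => j.elim0
      rw [inertiaROf_eq, finsum_unique, w_congr ((MulEquiv.subgroupCongr (show cen (default : CommTuple i.rep 0) = ⊤ from
          (congrArg cen (Subsingleton.elim _ s0)).trans htop)).trans Subgroup.topEquiv), w, smul_smul,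
        inv_mul_cancel₀ (Nat.cast_ne_zero.2 Nat.card_pos.ne'), one_smul, cl, Easy3.of_rep]
    rw [inertiaR, Finsupp.linearCombination_single, hc, Finsupp.smul_single, smul_eq_mul, mul_one]

end Groth.Agent.InertiaGpd
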