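import Groth.Agent.InertiaGpd.Basic
import Mathlib.LinearAlgebra.Eigenspace.Basic
import Mathlib.Data.Nat.Choose.Sum
import Mathlib.Tactic.Linarith
import Mathlib.Tactic.LinearCombination

/-!
# Spectral decomposition of the inertia operator
-/

set_option autoImplicit false

namespace Groth.Agent.InertiaGpd

open W4c5stacksedinertia Module.End

theorem inertiaR_comm (r : ℕ) (v : K) : inertiaR r (inertia v) = inertia (inertiaR r v) := by
  induction r with
  | zero => rw [inertiaR_zero, inertiaR_zero]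
  | succ r ih => rw [inertiaR_succ r (inertia v), inertiaR_succ r v, ih, map_sub, map_smul]

theorem inertiaR_eigen {v : K} {μ : ℚ} (h : inertia v = μ • v) (r : ℕ) :
    inertiaR r v = (∏ j ∈ Finset.range r, (μ - j)) • v := by
  induction r with
  | zero => simp [inertiaR_zero]
  | succ r ih =>
    rw [inertiaR_succ, ih, map_smul, h, smul_smul, smul_smul, ← sub_smul, Finset.prod_range_succ]
    congr 1
    ring

theorem prod_sub_eq (k r : ℕ) : ∏ j ∈ Finset.range r, ((k : ℚ) - j) = (Nat.factorial r * Nat.choose k r : ℕ) := by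
  rw [← Nat.descFactorial_eq_factorial_mul_choose]
  induction r with
  | zero => simp
  | succ r ih =>
    rw [Finset.prod_range_succ, ih, Nat.descFactorial_succ]
    rcases Nat.lt_or_ge k r with h | h
    · rw [Nat.descFactorial_eq_zero_iff_lt.2 h]; simp
    · rw [Nat.cast_mul, Nat.cast_sub h]; ring

theorem inertiaR_eq_zero {n r : ℕ} {v : K} (hv : v ∈ Kle n) (hr : n < r) : inertiaR r v = 0 := by
  rw [inertiaR, Finsupp.linearCombination_apply]
  refine Finset.sum_eq_zero fun i hi => ?_
  have hin : i.card ≤ n := (Finsupp.mem_supported ℚ v).1 hv (Finset.mem_coe.2 hi)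
  haveI : IsEmpty (CommTuple i.rep r) := ⟨fun s => by
    have := Nat.card_le_card_of_injective _ s.2.1
    rw [Nat.card_fin] at this
    exact absurd (this.trans hin) (not_le.2 hr)⟩
  haveI : IsEmpty (CommTuple.Orbit i.rep r) := Quotient.instIsEmpty
  show v i • inertiaROf r i.rep = 0
  rw [inertiaROf, finsum_of_isEmpty, smul_zero]

theorem exists_Kle (v : K) : ∃ n, v ∈ Kle n :=
  ⟨v.support.sup Idx.card, (Finsupp.mem_supported ℚ v).2 fun i hi => Finset.le_sup (f := Idx.card) (Finset.mem_coe.1 hi)⟩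

theorem mem_iSup_eigen : ∀ (r : ℕ) (v : K), inertiaR r v = 0 →
    v ∈ ⨆ k ∈ Finset.range r, eigenspace inertia (k : ℚ) := by
  intro r
  induction r with
  | zero =>
    intro v hv
    rw [inertiaR_zero] at hv
    rw [hv]; exact zero_mem _
  | succ r ih =>
    intro v hv
    have h1 := ih (inertia v - (r : ℚ) • v) (by
      rw [map_sub, map_smul, inertiaR_comm, ← inertiaR_succ, hv])
    have key : ∀ x ∈ ⨆ k ∈ Finset.range r, eigenspace inertia (k : ℚ),
        ∃ y ∈ ⨆ k ∈ Finset.range r, eigenspace inertia (k : ℚ), inertia y - (r : ℚ) • y = x := by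
      intro x hx
      refine Submodule.iSup_induction _ (motive := fun x => ∃ y ∈ ⨆ k ∈ Finset.range r, eigenspace inertia (k : ℚ),
        inertia y - (r : ℚ) • y = x) hx (fun k x hx => ?_) ⟨0, zero_mem _, by simp⟩ ?_
      · by_cases hk : k ∈ Finset.range r
        · rw [iSup_pos hk] at hx
          have he := mem_eigenspace_iff.1 hx
          have hne : (k : ℚ) - r ≠ 0 := sub_ne_zero.2 (by exact_mod_cast (Finset.mem_range.1 hk).ne)
          refine ⟨((k : ℚ) - r)⁻¹ • x, Submodule.smul_mem _ _ (Submodule.mem_iSup_of_mem k (Submodule.mem_iSup_of_mem hk hx)), ?_⟩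
          rw [map_smul, he, smul_smul, smul_smul, ← sub_smul,
            show ((k : ℚ) - r)⁻¹ * k - r * ((k : ℚ) - r)⁻¹ = 1 by field_simp, one_smul]
        · rw [iSup_neg hk, Submodule.mem_bot] at hx
          exact ⟨0, zero_mem _, by simp [hx]⟩
      · rintro x x' ⟨y, hy, rfl⟩ ⟨y', hy', rfl⟩
        exact ⟨y + y', add_mem hy hy', by rw [map_add, smul_add]; abel⟩
    obtain ⟨y, hy, hyx⟩ := key _ h1
    have hle : (⨆ k ∈ Finset.range r, eigenspace inertia (k : ℚ)) ≤ ⨆ k ∈ Finset.range (r + 1), eigenspace inertia (k : ℚ) :=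
      biSup_mono fun k hk => Finset.mem_range.2 (Nat.lt_succ_of_lt (Finset.mem_range.1 hk))
    rw [← sub_add_cancel v y]
    refine add_mem (Submodule.mem_iSup_of_mem r (Submodule.mem_iSup_of_mem (Finset.self_mem_range_succ r) ?_)) (hle hy)
    rw [mem_eigenspace_iff, map_sub, smul_sub, sub_eq_sub_iff_sub_eq_sub]
    exact hyx.symm

theorem ker_inertiaR (r : ℕ) : LinearMap.ker (inertiaR r) = ⨆ k ∈ Finset.range r, eigenspace inertia (k : ℚ) := by
  refine le_antisymm (fun v hv => mem_iSup_eigen r v hv) (iSup₂_le fun k hk v hv => ?_)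
  rw [LinearMap.mem_ker, inertiaR_eigen (mem_eigenspace_iff.1 hv), prod_sub_eq,
    Nat.choose_eq_zero_of_lt (Finset.mem_range.1 hk), mul_zero, Nat.cast_zero, zero_smul]

theorem eigen_zero {v : K} (hv : inertia v = 0) : v = 0 := by
  have key : ∀ k, v ∈ Kge k := by
    intro k
    induction k with
    | zero => exact (Finsupp.mem_supported ℚ v).2 fun i _ => Nat.zero_le _
    | succ k ih =>
      rcases Nat.eq_zero_or_pos k with rfl | hk
      · exact (Finsupp.mem_supported ℚ v).2 fun i _ => (Nat.card_pos : 0 < Nat.card (Subgroup.center i.rep))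
      · have h := Easy3.inertiaR_sub_mem 1 k v ih
        rw [show inertiaR 1 v = 0 from hv, zero_sub, Submodule.neg_mem_iff, Nat.factorial_one, one_mul, Nat.choose_one_right] at h
        have := Submodule.smul_mem (Kge (k + 1)) ((k : ℚ)⁻¹) h
        rwa [smul_smul, inv_mul_cancel₀ (Nat.cast_ne_zero.2 hk.ne'), one_smul] at this
  refine Finsupp.ext fun i => ?_
  by_contra hne
  have := (Finsupp.mem_supported ℚ v).1 (key (i.centerCard + 1)) (Finset.mem_coe.2 (Finsupp.mem_support_iff.2 hne))
  exact absurd this (by simp)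

/-- `∑ r, (-1)^r C(j,r) C(r,k)`. -/
def altSum (N j k : ℕ) : ℚ := ∑ r ∈ Finset.range N, (-1 : ℚ) ^ r * j.choose r * r.choose k

theorem altSum_eq : ∀ (j N k : ℕ), j < N → altSum N j k = if j = k then (-1) ^ k else 0 := by
  intro j
  induction j with
  | zero =>
    intro N k hN
    rw [altSum, Finset.sum_eq_single 0 (fun r _ hr => by rw [Nat.choose_eq_zero_of_lt (Nat.pos_of_ne_zero hr)]; simp)
      (fun h => absurd (Finset.mem_range.2 hN) h)]
    cases k <;> simp
  | succ j ih =>
    intro N k hN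
    obtain ⟨M, rfl⟩ : ∃ M, N = M + 1 := ⟨N - 1, by omega⟩
    have h0 := ih (M + 1) k (by omega)
    have h1 := ih M k (by omega)
    rw [altSum, Finset.sum_range_succ'] at h0 ⊢
    cases k with
    | zero =>
      simp only [Nat.choose_zero_right, Nat.cast_one, mul_one, pow_zero, Nat.choose_succ_succ, Nat.cast_add,
        mul_add, Finset.sum_add_distrib, Nat.succ_eq_add_one] at h0 ⊢
      rw [altSum] at h1
      simp only [Nat.choose_zero_right, Nat.cast_one, mul_one, pow_zero] at h1
      have : ∑ x ∈ Finset.range M, (-1 : ℚ) ^ (x + 1) * (j.choose x : ℚ) = -(if j = 0 then (1 : ℚ) else 0) := by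
        rw [← h1, ← Finset.sum_neg_distrib]
        exact Finset.sum_congr rfl fun x _ => by rw [pow_succ]; ring
      rw [if_neg (Nat.succ_ne_zero j)]
      rw [this]
      linarith [h0]
    | succ k =>
      have h2 := ih M k (by omega)
      rw [altSum] at h1 h2
      simp only [Nat.choose_zero_succ, Nat.cast_zero, mul_zero, add_zero] at h0 ⊢
      have e : ∀ x, (-1 : ℚ) ^ (x + 1) * ((j + 1).choose (x + 1) : ℚ) * ((x + 1).choose (k + 1) : ℚ) =
          (-1 : ℚ) ^ (x + 1) * (j.choose (x + 1) : ℚ) * ((x + 1).choose (k + 1) : ℚ)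
            - (-1 : ℚ) ^ x * (j.choose x : ℚ) * (x.choose (k + 1) : ℚ) - (-1 : ℚ) ^ x * (j.choose x : ℚ) * (x.choose k : ℚ) := fun x => by
        rw [Nat.choose_succ_succ' j x, Nat.choose_succ_succ' x k, Nat.cast_add, Nat.cast_add, pow_succ]
        ring
      rw [Finset.sum_congr rfl fun x _ => e x, Finset.sum_sub_distrib, Finset.sum_sub_distrib, h0, h1, h2, sub_self, zero_sub]
      by_cases hjk : j = k
      · rw [if_pos hjk, if_pos (by omega), pow_succ]; ring
      · rw [if_neg hjk, if_neg (by omega), neg_zero]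

theorem proj_formula (v : K) :
    (∀ k : ℕ, (∑ᶠ r : ℕ, (((-1 : ℚ) ^ (r + k)) / (Nat.factorial r : ℚ) * (Nat.choose r k : ℚ)) • inertiaR r v)
        ∈ eigenspace inertia (k : ℚ)) ∧
      (∑ᶠ k : ℕ, ∑ᶠ r : ℕ, (((-1 : ℚ) ^ (r + k)) / (Nat.factorial r : ℚ) * (Nat.choose r k : ℚ)) • inertiaR r v) = v := by
  classical
  obtain ⟨n, hn⟩ := exists_Kle v
  let c : ℕ → ℕ → ℚ := fun r k => ((-1 : ℚ) ^ (r + k)) / (Nat.factorial r : ℚ) * (Nat.choose r k : ℚ)
  let P : ℕ → K → K := fun k w => ∑ r ∈ Finset.range (n + 1), c r k • inertiaR r w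
  have hP : ∀ k, (∑ᶠ r : ℕ, c r k • inertiaR r v) = P k v := fun k =>
    finsum_eq_sum_of_support_subset _ fun r hr => Finset.mem_coe.2 (Finset.mem_range.2 (by
      by_contra hle
      exact hr (by show c r k • inertiaR r v = 0; rw [inertiaR_eq_zero hn (by omega), smul_zero])))
  have heig : ∀ j ∈ Finset.range (n + 1), ∀ w ∈ eigenspace inertia (j : ℚ), ∀ k, P k w = if j = k then w else 0 := by
    intro j hj w hw k
    have hterm : ∀ r, c r k • inertiaR r w = ((-1 : ℚ) ^ k * ((-1) ^ r * j.choose r * r.choose k)) • w := fun r => by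
      rw [inertiaR_eigen (mem_eigenspace_iff.1 hw), prod_sub_eq, smul_smul]
      congr 1
      have : (Nat.factorial r : ℚ) ≠ 0 := Nat.cast_ne_zero.2 (Nat.factorial_ne_zero r)
      simp only [c, Nat.cast_mul]
      field_simp
      ring
    show ∑ r ∈ Finset.range (n + 1), c r k • inertiaR r w = _
    rw [Finset.sum_congr rfl fun r _ => hterm r, ← Finset.sum_smul, ← Finset.mul_sum,
      show ∑ r ∈ Finset.range (n + 1), (-1 : ℚ) ^ r * j.choose r * r.choose k = altSum (n + 1) j k from rfl,
      altSum_eq j (n + 1) k (Finset.mem_range.1 hj)]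
    by_cases hjk : j = k
    · rw [if_pos hjk, if_pos hjk, ← mul_pow, neg_one_mul, neg_neg, one_pow, one_smul]
    · rw [if_neg hjk, if_neg hjk, mul_zero, zero_smul]
  have hPadd : ∀ k a b, P k (a + b) = P k a + P k b := fun k a b => by
    simp only [P, map_add, smul_add, Finset.sum_add_distrib]
  have main : ∀ w ∈ ⨆ j ∈ Finset.range (n + 1), eigenspace inertia (j : ℚ),
      (∀ k : ℕ, P k w ∈ eigenspace inertia (k : ℚ)) ∧ (∀ k : ℕ, n < k → P k w = 0) ∧ ∑ k ∈ Finset.range (n + 1), P k w = w := by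
    intro w hw
    refine Submodule.iSup_induction _ (motive := fun w => (∀ k : ℕ, P k w ∈ eigenspace inertia (k : ℚ)) ∧
      (∀ k : ℕ, n < k → P k w = 0) ∧ ∑ k ∈ Finset.range (n + 1), P k w = w) hw (fun j x hx => ?_) ?_ ?_
    · by_cases hj : j ∈ Finset.range (n + 1)
      · rw [iSup_pos hj] at hx
        refine ⟨fun k => ?_, fun k hk => ?_, ?_⟩
        · rw [heig j hj x hx k]
          by_cases hjk : j = k
          · rw [if_pos hjk, ← hjk]; exact hx
          · rw [if_neg hjk]; exact zero_mem _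
        · rw [heig j hj x hx k, if_neg]
          rintro rfl
          have := Finset.mem_range.1 hj
          omega
        · rw [Finset.sum_congr rfl fun k _ => heig j hj x hx k, Finset.sum_ite_eq, if_pos hj]
      · rw [iSup_neg hj, Submodule.mem_bot] at hx
        subst hx
        simp [P]
    · simp [P]
    · rintro a b ⟨a1, a2, a3⟩ ⟨b1, b2, b3⟩
      refine ⟨fun k => ?_, fun k hk => ?_, ?_⟩
      · rw [hPadd]; exact add_mem (a1 k) (b1 k)
      · rw [hPadd, a2 k hk, b2 k hk, add_zero]
      · simp only [hPadd, Finset.sum_add_distrib, a3, b3]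
  obtain ⟨h1, h2, h3⟩ := main v (mem_iSup_eigen (n + 1) v (inertiaR_eq_zero hn (Nat.lt_succ_self n)))
  refine ⟨fun k => (hP k).symm ▸ h1 k, ?_⟩
  show ∑ᶠ k : ℕ, (∑ᶠ r : ℕ, c r k • inertiaR r v) = v
  simp only [hP]
  refine (finsum_eq_sum_of_support_subset (fun k => P k v) (s := Finset.range (n + 1)) fun k hk => ?_).trans h3
  refine Finset.mem_coe.2 (Finset.mem_range.2 ?_)
  by_contra hle
  exact hk (h2 k (by omega))

end Groth.Agent.InertiaGpd
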